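import Groth.Agent.EtCurveBidual.Main
import Groth.Agent.EtCurveDual.S3144Main

/-!
Biduality for bounded constructible complexes on a regular curve.
-/

set_option autoImplicit false
set_option backward.isDefEq.respectTransparency false
set_option backward.isDefEq.respectTransparency.types false
set_option linter.style.haveILetI false
set_option linter.unusedSectionVars false
set_option linter.auxLemma false
set_option maxHeartbeats 1000000

universe u

open CategoryTheory CategoryTheory.Limits AlgebraicGeometry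

attribute [local instance] HasDerivedCategory.standard

noncomputable section

namespace Groth.Agent.EtCurveBidual

open Groth.Agent.EtExtLoc Groth.Agent.EtCurveDual

theorem isZero_mod_of_isEmpty {Λ : Type (u + 1)} [CommRing Λ] {S : Scheme.{u}} (h : IsEmpty S) (F : EtModW.Mod Λ S) :
    IsZero F :=
  EtConsShriek.isZero_of_stalks fun Ω _ _ ξ => (h.false (ξ (default : Spec (CommRingCat.of Ω)))).elim

theorem isZero_D_of_isEmpty {Λ : Type (u + 1)} [CommRing Λ] {S : Scheme.{u}} (h : IsEmpty S) (K : EtModD.D Λ S) :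
    IsZero K := by
  haveI : (DerivedCategory.Q (C := EtModW.Mod Λ S)).EssSurj := Localization.essSurj _
    (HomologicalComplex.quasiIso (EtModW.Mod Λ S) (ComplexShape.up ℤ))
  let A := (DerivedCategory.Q (C := EtModW.Mod Λ S)).objPreimage K
  have hA : IsZero A := (IsZero.iff_id_eq_zero A).2
    (HomologicalComplex.hom_ext _ _ fun i => (isZero_mod_of_isEmpty h (A.X i)).eq_of_src _ _)
  exact (Functor.map_isZero (DerivedCategory.Q (C := EtModW.Mod Λ S)) hA).of_iso
    ((DerivedCategory.Q (C := EtModW.Mod Λ S)).objObjPreimageIso K).symm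

theorem isDbc_of_isEmpty {Λ : Type (u + 1)} [CommRing Λ] [IsNoetherianRing Λ] {S : Scheme.{u}} (h : IsEmpty S)
    (K : EtModD.D Λ S) : EtModD.IsDbc K := by
  refine ⟨⟨0, 0, ?_, ?_⟩, fun i => EtRpushCons.isConstructible_zero (isZero_mod_of_isEmpty h _)⟩
  · rw [DerivedCategory.isGE_iff]
    exact fun i _ => isZero_mod_of_isEmpty h _
  · rw [DerivedCategory.isLE_iff]
    exact fun i _ => isZero_mod_of_isEmpty h _

/-- **biduality on a regular curve** -/
theorem biduality (n : ℕ) {S : Scheme.{u}} [IsNoetherian S]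
    (hreg : ∀ s : S, IsRegularLocalRing (S.presheaf.stalk s)) (hdim : ∀ s : S, ringKrullDim (S.presheaf.stalk s) ≤ 1)
    (hn : IsUnit (n : Γ(S, ⊤))) (K : CochainComplex (EtModW.Mod (ULift.{u+1} (ZMod n)) S) ℤ)
    (hK : EtModD.IsDbc (DerivedCategory.Q.obj K)) [EtModD.HasLTensorCx K] [EtModD.HasRHom K]
    (M : CochainComplex (EtModW.Mod (ULift.{u+1} (ZMod n)) S) ℤ)
    (hM : Nonempty (DerivedCategory.Q.obj M ≅ EtModD.dual (DerivedCategory.Q.obj
      ((CochainComplex.singleFunctor (EtModW.Mod (ULift.{u+1} (ZMod n)) S) 0).obj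
        (EtModW.constMod (ULift.{u+1} (ZMod n)) S (ULift.{u+1} (ZMod n))))) K))
    [EtModD.HasLTensorCx M] [EtModD.HasRHom M] :
    EtModD.IsDbc (DerivedCategory.Q.obj M) ∧
      Nonempty (DerivedCategory.Q.obj K ≅ EtModD.dual (DerivedCategory.Q.obj
        ((CochainComplex.singleFunctor (EtModW.Mod (ULift.{u+1} (ZMod n)) S) 0).obj
          (EtModW.constMod (ULift.{u+1} (ZMod n)) S (ULift.{u+1} (ZMod n))))) M) := by
  rcases Nat.eq_zero_or_pos n with rfl | hpos
  · have h := isEmpty_of_zero hn
    haveI : IsNoetherianRing (ULift.{u+1} (ZMod 0)) := 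
      haveI : IsNoetherianRing (ZMod 0) := inferInstanceAs (IsNoetherianRing ℤ)
      isNoetherianRing_of_ringEquiv (ZMod 0) ULift.ringEquiv.symm
    exact ⟨isDbc_of_isEmpty h _, ⟨(isZero_D_of_isEmpty h _).iso (isZero_D_of_isEmpty h _)⟩⟩
  · haveI : NeZero n := ⟨hpos.ne'⟩
    have hX : Cv n S := ⟨inferInstance, hreg, hdim, hn⟩
    exact ⟨isDbc_dual hX K hK _ hM.some, nonempty_dual_dual (LL (n := n) S) (bid_dbc hX K hK).1 M hM⟩

end Groth.Agent.EtCurveBidual

end
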